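/-
The filtration of the radical of a maximal parabolic subgroup by the coordinate of its fundamental root,
and the iterated cores of two adjacent conjugates.
-/
import Cfsg.Agent.Lib.Chev.BorelTits
import Cfsg.Agent.Lib.Chev.StValue

set_option autoImplicit false

namespace CfsgLib.Chev.Levels

open Cfsg.Lie Matrix CfsgLib.Chev.Grade

variable {D : ChevalleyDatum} {A : Aux} {F : Type*} [Field F]

variable (F) in
/-- the roots whose coordinate at `j` is at least `k` -/
noncomputable def Lv (g : Good D A) (j k : ℕ) : Subgroup (GL D.Idx F) :=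
  UP F g (fun r => r < D.nroots ∧ (k : ℤ) ≤ A.a r j)

/-- the form measuring the level in units of `k` -/
noncomputable def yk (D : ChevalleyDatum) (j k : ℕ) : Fin D.rank → ℝ :=
  fun l => if l.val = j then (k : ℝ)⁻¹ else 0

/-- the roots outside the parabolic subgroup -/
def JJ (D : ChevalleyDatum) (j : ℕ) : Finset ℕ := (Finset.range D.rank).erase j

theorem evR_yk {j : ℕ} (hj : j < D.rank) (k r : ℕ) :
    evR D A r (yk D j k) = (A.a r j : ℝ) / k := by
  rw [evR, Finset.sum_eq_single ⟨j, hj⟩]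
  · simp [yk, div_eq_mul_inv]
  · intro l _ hl
    simp [yk, show l.val ≠ j from fun e => hl (Fin.ext e)]
  · simp

theorem one_le_evR_yk {j : ℕ} (hj : j < D.rank) {k : ℕ} (hk : 1 ≤ k) (r : ℕ) :
    1 ≤ evR D A r (yk D j k) ↔ (k : ℤ) ≤ A.a r j := by
  rw [evR_yk hj, le_div_iff₀ (by exact_mod_cast hk), one_mul]
  exact_mod_cast Iff.rfl

theorem pos_of_coord_pos (g : Good D A) {r j : ℕ} (hr : r < D.nroots) (h : 0 < A.a r j) :
    D.IsPosRoot r := by
  refine (g.pos_iff r hr).2 fun l => ?_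
  rcases g.pos_or_neg r hr with h' | h'
  · exact h' l
  · exact absurd (h' j) (not_le.2 h)

theorem Lv_mono (g : Good D A) (j : ℕ) {k l : ℕ} (hkl : k ≤ l) : Lv F g j l ≤ Lv F g j k :=
  UP_le fun r t hr => xG_mem_UP g (P := fun r => r < D.nroots ∧ (k : ℤ) ≤ A.a r j)
    ⟨hr.1, le_trans (by exact_mod_cast hkl) hr.2⟩ t

theorem Lv_le_pos (g : Good D A) {j k : ℕ} (hk : 1 ≤ k) : Lv F g j k ≤ D.posUnipotent F :=
  UP_le fun r t hr => xG_mem_posUnipotent g (pos_of_coord_pos g (j := j) hr.1 (by omega)) t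

theorem T1_of_mem_Lv (g : Good D A) {j k : ℕ} (hj : j < D.rank) (hk : 1 ≤ k) {z : GL D.Idx F}
    (hz : z ∈ Lv F g j k) : T1 A (yk D j k) z :=
  T1_of_mem_UP g (fun r hr => ⟨hr.1, (one_le_evR_yk hj hk r).2 hr.2⟩) hz

theorem mem_Lv_of_T1 (h : Std D A) {j k : ℕ} (hj : j < D.rank) (hk : 1 ≤ k) {z : GL D.Idx F}
    (hz : z ∈ D.posUnipotent F) (ht : T1 A (yk D j k) z) : z ∈ Lv F h.good j k :=
  (UP_le fun r t hr => xG_mem_UP h.good (P := fun r => r < D.nroots ∧ (k : ℤ) ≤ A.a r j)
    ⟨hr.1.1, (one_le_evR_yk hj hk r).1 hr.2.1⟩ t) (mem_UP_of_T1 h hz ht ht)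

open Classical in
/-- the coordinate of a root, read off in the adjoint module -/
noncomputable def tau (g : Good D A) (r : ℕ) (z : GL D.Idx F) : F :=
  if hr : r < D.nroots then
    ((z : Matrix D.Idx D.Idx F) - 1) (Sum.inl (xG_inj_root.exists_coro_ne_zero (F := F) g hr).choose)
      (Sum.inr ⟨A.neg r, g.neg_lt r hr⟩) /
      (A.coro r (xG_inj_root.exists_coro_ne_zero (F := F) g hr).choose : F)
  else 0

theorem tau_one (g : Good D A) (r : ℕ) : tau g r (1 : GL D.Idx F) = 0 := by
  unfold tau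
  split <;> simp

theorem tau_mul (g : Good D A) {j k : ℕ} (hj : j < D.rank) (hk : 1 ≤ k) {r : ℕ}
    (hr : r < D.nroots) (hrk : A.a r j = k) {z w : GL D.Idx F} (hz : T1 A (yk D j k) z)
    (hw : T1 A (yk D j k) w) : tau g r (z * w) = tau g r z + tau g r w := by
  simp only [tau, dif_pos hr, ← add_div]
  congr 1
  have e : ((z * w : GL D.Idx F) : Matrix D.Idx D.Idx F) - 1 =
      ((z : Matrix D.Idx D.Idx F) - 1) + ((w : Matrix D.Idx D.Idx F) - 1) +
        ((z : Matrix D.Idx D.Idx F) - 1) * ((w : Matrix D.Idx D.Idx F) - 1) := by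
    rw [Units.val_mul]; noncomm_ring
  rw [e, Matrix.add_apply, Matrix.add_apply, add_eq_left]
  by_contra hne
  have h1 := lo_mul hz hw _ _ hne
  have h2 : evR D A r (yk D j k) = 1 := by
    rw [evR_yk hj, hrk]
    exact div_self (by positivity)
  simp only [wR, evR_neg g hr, h2] at h1
  norm_num at h1

theorem tau_xG (g : Good D A) {j k : ℕ} (hj : j < D.rank) (hk : 1 ≤ k) {r : ℕ} (hr : r < D.nroots)
    (hrk : A.a r j = k) {s : ℕ} (hs : s < D.nroots) (hsk : (k : ℤ) ≤ A.a s j) (t : F) :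
    tau g r (xG g s t) = if s = r then t else 0 := by
  simp only [tau, dif_pos hr, xG_val, Matrix.sub_apply]
  have hi := (xG_inj_root.exists_coro_ne_zero (F := F) g hr).choose_spec
  set i := (xG_inj_root.exists_coro_ne_zero (F := F) g hr).choose
  rw [Matrix.one_apply_ne (by simp), sub_zero]
  by_cases e : s = r
  · subst e
    rw [if_pos rfl, x_entry g hs, mul_div_assoc, div_self hi, mul_one]
  rw [if_neg e, div_eq_zero_iff]
  left
  by_contra hne
  obtain ⟨n, hn, hstep⟩ := x_entry_step g hs t (u := Sum.inl i)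
    (v := Sum.inr ⟨A.neg r, g.neg_lt r hr⟩) (by rwa [Matrix.one_apply_ne (by simp)])
  have hc : ∀ l : Fin D.rank, A.a r l = n * A.a s l := by
    intro l
    have := hstep (fun m => if m = l then 1 else 0)
    simp only [wR, evR] at this
    simp only [mul_ite, mul_one, mul_zero, Finset.sum_ite_eq', Finset.mem_univ, if_true] at this
    rw [g.a_neg r hr l, Int.cast_neg] at this
    have h2 : (A.a r l : ℝ) = ((n : ℤ) * A.a s l : ℤ) := by push_cast; linarith
    exact_mod_cast h2
  have hj' := hc ⟨j, hj⟩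
  simp only [hrk] at hj'
  have hn1 : n = 1 := by
    by_contra hne1
    have h2 : (2 : ℤ) ≤ n := by omega
    nlinarith
  subst hn1
  exact e (g.a_inj s hs r hr fun l hl => by rw [hc ⟨l, hl⟩]; simp)

theorem tau_zero_of_mem (g : Good D A) {j k : ℕ} (hj : j < D.rank) (hk : 1 ≤ k) {r : ℕ}
    (hr : r < D.nroots) (hrk : A.a r j = k) {P : ℕ → Prop}
    (hP : ∀ s, P s → s < D.nroots ∧ (k : ℤ) ≤ A.a s j) (hnr : ¬ P r) {z : GL D.Idx F}
    (hz : z ∈ UP F g P) : tau g r z = 0 := by
  induction hz using Subgroup.closure_induction_left with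
  | one => exact tau_one g r
  | mul_left a ha b hb ih =>
    obtain ⟨s, t, hs, rfl⟩ := ha
    rw [tau_mul g hj hk hr hrk (xG_T1 g (hP s hs).1 t ((one_le_evR_yk hj hk s).2 (hP s hs).2))
      (T1_of_mem_UP g (fun q hq => ⟨(hP q hq).1, (one_le_evR_yk hj hk q).2 (hP q hq).2⟩) hb), ih,
      tau_xG g hj hk hr hrk (hP s hs).1 (hP s hs).2, if_neg fun e : s = r => hnr (e ▸ hs), add_zero]
  | inv_mul_cancel a ha b hb ih =>
    obtain ⟨s, t, hs, rfl⟩ := ha
    rw [xG_inv, tau_mul g hj hk hr hrk (xG_T1 g (hP s hs).1 _ ((one_le_evR_yk hj hk s).2 (hP s hs).2))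
      (T1_of_mem_UP g (fun q hq => ⟨(hP q hq).1, (one_le_evR_yk hj hk q).2 (hP q hq).2⟩) hb), ih,
      tau_xG g hj hk hr hrk (hP s hs).1 (hP s hs).2, if_neg fun e : s = r => hnr (e ▸ hs), add_zero]

/-- monomial elements preserving the level permute the coordinates -/
theorem tau_monomial (g : Good D A) {j k : ℕ} (hj : j < D.rank) (hk : 1 ≤ k) {n : GL D.Idx F}
    {σ : ℕ → ℕ} (hσ : Acts g n σ) (hlev : ∀ s < D.nroots, A.a (σ s) j = A.a s j) {r : ℕ}
    (hr : r < D.nroots) (hrk : A.a r j = k) :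
    ∃ c : F, c ≠ 0 ∧ ∀ z ∈ Lv F g j k, tau g (σ r) (n * z * n⁻¹) = c * tau g r z := by
  obtain ⟨c, hc, hcr⟩ := hσ.conj r hr
  refine ⟨c, hc, fun z hz => ?_⟩
  have hσrk : A.a (σ r) j = k := by rw [hlev r hr, hrk]
  have hconj : ∀ b ∈ Lv F g j k, n * b * n⁻¹ ∈ Lv F g j k := fun b hb =>
    conj_UP_le hσ (fun s hs => hs.1) (fun s t hs => xG_mem_UP g
      (P := fun r => r < D.nroots ∧ (k : ℤ) ≤ A.a r j) ⟨hσ.map.1 s hs.1, by rw [hlev s hs.1]; exact hs.2⟩ t) hb
  have step : ∀ s t, s < D.nroots → (k : ℤ) ≤ A.a s j → ∀ b ∈ Lv F g j k,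
      tau g (σ r) (n * b * n⁻¹) = c * tau g r b →
      tau g (σ r) (n * (xG g s t * b) * n⁻¹) = c * tau g r (xG g s t * b) := by
    intro s t hs hsk b hb ih
    obtain ⟨e, he, hes⟩ := hσ.conj s hs
    have hsk' : (k : ℤ) ≤ A.a (σ s) j := by rw [hlev s hs]; exact hsk
    rw [show n * (xG g s t * b) * n⁻¹ = (n * xG g s t * n⁻¹) * (n * b * n⁻¹) by group, hes,
      tau_mul g hj hk (hσ.map.1 r hr) hσrk (xG_T1 g (hσ.map.1 s hs) _ ((one_le_evR_yk hj hk _).2 hsk'))
        (T1_of_mem_Lv g hj hk (hconj b hb)), ih,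
      tau_xG g hj hk (hσ.map.1 r hr) hσrk (hσ.map.1 s hs) hsk',
      tau_mul g hj hk hr hrk (xG_T1 g hs _ ((one_le_evR_yk hj hk s).2 hsk)) (T1_of_mem_Lv g hj hk hb),
      tau_xG g hj hk hr hrk hs hsk, mul_add]
    congr 1
    by_cases hsr : s = r
    · subst hsr
      rw [if_pos rfl, if_pos rfl]
      have h1 := hcr 1
      rw [hes 1] at h1
      have h2 := congrArg (tau g (σ s)) h1
      rw [tau_xG g hj hk (hσ.map.1 s hs) hσrk (hσ.map.1 s hs) hsk', if_pos rfl,
        tau_xG g hj hk (hσ.map.1 s hs) hσrk (hσ.map.1 s hs) hsk', if_pos rfl, mul_one, mul_one] at h2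
      rw [h2]
    · rw [if_neg hsr, if_neg fun e' => hsr (hσ.inj hs hr e'), mul_zero]
  induction hz using Subgroup.closure_induction_left with
  | one => simp [tau_one]
  | mul_left a ha b hb ih =>
    obtain ⟨s, t, hs, rfl⟩ := ha
    exact step s t hs.1 hs.2 b hb ih
  | inv_mul_cancel a ha b hb ih =>
    obtain ⟨s, t, hs, rfl⟩ := ha
    rw [xG_inv]
    exact step s (-t) hs.1 hs.2 b hb ih

/-- no coordinates at level `k`: the next level -/
theorem mem_Lv_succ_UL (h : Std D A) {j k : ℕ} (hj : j < D.rank) (hk : 1 ≤ k) :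
    ∀ {L : List ℕ}, UpList D L → ∀ {z : GL D.Idx F}, z ∈ UL F h.good L → T1 A (yk D j k) z →
      (∀ r < D.nroots, A.a r j = k → tau h.good r z = 0) → z ∈ Lv F h.good j (k + 1)
  | [], _, z, hz, _, _ => by
    rw [UL_nil, Subgroup.mem_bot] at hz
    rw [hz]; exact one_mem _
  | a :: L, hL, z, hz, hzT, hτ => by
    have g := h.good
    obtain ⟨T, rfl⟩ := exists_pw h hL hz
    have ha := hL.pos a List.mem_cons_self
    have hpw : pw g (a :: L) T = xG g a (T a) * pw g L T := by simp [pw]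
    have hrest := pw_mem_UL (F := F) g L T
    by_cases ht : T a = 0
    · rw [hpw, ht, xG_zero, one_mul] at hzT hτ ⊢
      exact mem_Lv_succ_UL h hj hk hL.tail hrest hzT hτ
    have hca : 0 < code D A a := (pos_iff_code h ha.1).1 ha
    have htri := (UL_le_triG h hca.le (fun r hr => (hL.tail.pos r hr).1) (fun r hr =>
      code_mono h ((List.pairwise_cons.1 hL.sorted).1 r hr) (hL.tail.pos r hr).1) hrest).1
    set ng : D.Idx := Sum.inr ⟨A.neg a, g.neg_lt a ha.1⟩
    have hwn : wgt D A ng = - code D A a := by simp [ng, wgt, code_neg g ha.1]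
    have hentry : ∀ i : Fin D.rank, ((pw g (a :: L) T : GL D.Idx F) : Matrix D.Idx D.Idx F)
        (Sum.inl i) ng = T a * (A.coro a i : F) := by
      intro i
      rw [hpw, Units.val_mul, Matrix.mul_apply, Finset.sum_eq_single ng]
      · rw [htri ng ng (by omega), if_pos rfl, mul_one, xG_val, x_entry g ha.1]
      · intro m _ hm
        by_cases hw : 1 * wgt D A m ≤ 1 * wgt D A ng + code D A a
        · rw [htri m ng hw, if_neg hm, mul_zero]
        · have h0 := (xG_mem_triG g ha.1 (T a) (Or.inl rfl) le_rfl (by rw [one_mul]; exact hca)).1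
            (Sum.inl i) m (by dsimp only; rw [show wgt D A (Sum.inl i) = 0 from rfl]; omega)
          rw [h0, if_neg (fun e => ?_), zero_mul]
          subst e
          rw [show wgt D A (Sum.inl i) = 0 from rfl] at hw
          omega
      · simp
    have hge : (k : ℤ) ≤ A.a a j := by
      obtain ⟨i, hi⟩ := xG_inj_root.exists_coro_ne_zero (F := F) g ha.1
      have := hzT (Sum.inl i) ng (by
        rw [Matrix.sub_apply, hentry, Matrix.one_apply_ne (by simp [ng]), sub_zero]
        exact mul_ne_zero ht hi)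
      simp only [ng, wR, evR_neg g ha.1] at this
      exact (one_le_evR_yk hj hk a).1 (by linarith)
    have hgt : (k : ℤ) < A.a a j := by
      rcases hge.lt_or_eq with h' | h'
      · exact h'
      exfalso
      have h2 := hτ a ha.1 h'.symm
      simp only [tau, dif_pos ha.1, Matrix.sub_apply] at h2
      rw [show (Sum.inr ⟨A.neg a, g.neg_lt a ha.1⟩ : D.Idx) = ng from rfl, hentry,
        Matrix.one_apply_ne (by simp [ng]), sub_zero] at h2
      have hi := (xG_inj_root.exists_coro_ne_zero (F := F) g ha.1).choose_spec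
      rw [mul_div_assoc, div_self hi, mul_one] at h2
      exact ht h2
    have hinv : xG g a (-(T a)) * pw g (a :: L) T = pw g L T := by
      rw [hpw, ← mul_assoc, xG_add, neg_add_cancel, xG_zero, one_mul]
    have hxT : T1 A (yk D j k) (xG g a (-(T a))) := xG_T1 g ha.1 _ ((one_le_evR_yk hj hk a).2 hge)
    have hmem := mem_Lv_succ_UL h hj hk hL.tail hrest (hinv ▸ T1_mul hxT hzT) (fun r hr hrk => by
      rw [← hinv, tau_mul g hj hk hr hrk hxT hzT, hτ r hr hrk, tau_xG g hj hk hr hrk ha.1 hge,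
        if_neg (fun e : a = r => by subst e; omega), add_zero])
    rw [hpw]
    exact mul_mem (xG_mem_UP g (P := fun r => r < D.nroots ∧ ((k + 1 : ℕ) : ℤ) ≤ A.a r j)
      ⟨ha.1, by push_cast; omega⟩ _) hmem

theorem mem_Lv_succ (h : Std D A) {j k : ℕ} (hj : j < D.rank) (hk : 1 ≤ k) {z : GL D.Idx F}
    (hz : z ∈ Lv F h.good j k) (hτ : ∀ r < D.nroots, A.a r j = k → tau h.good r z = 0) :
    z ∈ Lv F h.good j (k + 1) :=
  mem_Lv_succ_UL h hj hk upList_posRoots (by rw [UL_posRoots h.good]; exact Lv_le_pos h.good hk hz)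
    (T1_of_mem_Lv h.good hj hk hz) hτ

theorem Lv_one_eq_radical (h : Para D A) {j : ℕ} (hj : j < D.rank) :
    Lv F h.std.good j 1 = D.unipotentRadical F (JJ D j : Set ℕ) := by
  rw [radical_eq h]
  refine UP_congr _ fun r => ⟨fun hr => ?_, fun ⟨hp, l, hl, hlJ, hpos⟩ => ?_⟩
  · exact ⟨pos_of_coord_pos h.std.good (j := j) hr.1 (by omega), j, hj, by simp [JJ], by omega⟩
  · obtain rfl : l = j := by
      simp only [JJ, Finset.coe_erase, Set.mem_diff, Finset.coe_range, Set.mem_Iio,
        Set.mem_singleton_iff, not_and, not_not] at hlJ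
      exact hlJ hl
    exact ⟨hp.1, by exact_mod_cast hpos⟩

theorem Lv_le_parabolic (g : Good D A) {j k : ℕ} (hk : 1 ≤ k) :
    Lv F g j k ≤ D.parabolicSubgroup F (JJ D j : Set ℕ) :=
  (Lv_le_pos g hk).trans (pos_le_borel.trans (borel_le_parabolic _))

/-- the parabolic subgroup normalises every level -/
theorem parabolic_le_normalizer_Lv (h : Std D A) {j k : ℕ} (hj : j < D.rank) (hk : 1 ≤ k) :
    D.parabolicSubgroup F (JJ D j : Set ℕ) ≤
      Subgroup.normalizer (Lv F h.good j k : Set (GL D.Idx F)) := by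
  have g := h.good
  rw [parabolic_eq g]
  refine sup_le ?_ ((Subgroup.closure_le _).2 ?_)
  · refine mem_normalizer_UP fun b hb r t hr => ?_
    refine mem_Lv_of_T1 h hj hk (conj_posUnipotent g hb (xG_mem_posUnipotent g
      (pos_of_coord_pos g (j := j) hr.1 (by omega)) t)) (T1_conj g (fun l => ?_) hb
        (xG_T1 g hr.1 t ((one_le_evR_yk hj hk r).2 hr.2)))
    simp only [yk]; split <;> positivity
  · rintro y ⟨i, hiJ, hi, rfl⟩
    have hij : i ≠ j := (Finset.mem_erase.1 (Finset.mem_coe.1 hiJ)).1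
    obtain ⟨τ, hτ, hτσ⟩ := acts_inv g (nS_mem_monomial g hi) (acts_nS (F := F) g hi)
    have hlev : ∀ s < D.nroots, A.a (A.refl i s) j = A.a s j := fun s hs => by
      rw [g.a_refl i hi s hs j hj, if_neg (Ne.symm hij), sub_zero]
    rw [SetLike.mem_coe, Subgroup.mem_normalizer_iff]
    refine fun z => ⟨fun hz => conj_UP_le (acts_nS g hi) (fun s hs => hs.1) (fun s t hs => xG_mem_UP g
      (P := fun r => r < D.nroots ∧ (k : ℤ) ≤ A.a r j)
      ⟨g.refl_lt i hi s hs.1, by rw [hlev s hs.1]; exact hs.2⟩ t) hz, fun hz => ?_⟩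
    have := conj_UP_le (K := Lv F g j k) hτ (fun s hs => hs.1) (fun s t hs => xG_mem_UP g
      (P := fun r => r < D.nroots ∧ (k : ℤ) ≤ A.a r j) ⟨hτ.map.1 s hs.1, by
        rw [← hlev _ (hτ.map.1 s hs.1), (hτσ s hs.1).2]; exact hs.2⟩ t) hz
    simpa [mul_assoc] using this

/-- the checks on a node -/
noncomputable def levCheck (D : ChevalleyDatum) (A : Aux) (j : ℕ) : Bool :=
  (List.range D.nroots).all fun r =>
    (decide (A.a r j < 1) || decide (r = D.simple j) || decide (A.cart j r ≤ 1)) &&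
    (decide (A.a r j < 1) ||
      ((List.range D.rank).any fun i => decide (i ≠ j ∧ 0 < A.cart i r)) ||
      decide (r = D.simple j) || decide (2 ≤ A.a r j ∧ 1 ≤ A.cart j r)) &&
    decide (A.a r j ≤ 6)

/-- every other fundamental root is the difference of two roots of level one -/
noncomputable def spanCheck (D : ChevalleyDatum) (A : Aux) (j : ℕ) : Bool :=
  (List.range D.rank).all fun i => decide (i = j) ||
    (List.range D.nroots).any fun r => decide (A.a r j = 1) && (List.range D.nroots).any fun r' =>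
      decide (∀ l < D.rank, A.a r' l = A.a r l + if l = i then 1 else 0)

section cores

variable {j : ℕ}

theorem lev_sub (h : Std D A) (hj : j < D.rank) (hC : levCheck D A j = true) {r : ℕ}
    (hr : r < D.nroots) (h1 : 1 ≤ A.a r j) (hne : r ≠ D.simple j) :
    A.a r j - 1 ≤ A.a (A.refl j r) j := by
  simp only [levCheck, List.all_eq_true, List.mem_range, Bool.and_eq_true, Bool.or_eq_true,
    decide_eq_true_eq] at hC
  rcases (hC r hr).1.1 with (h2 | h2) | h2
  · omega
  · exact absurd h2 hne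
  · rw [h.good.a_refl j hj r hr j hj, if_pos rfl]; omega

theorem xG_neg_not_mem (h : Para D A) (hj : j < D.rank) {t : F} (ht : t ≠ 0) :
    xG h.std.good (A.neg (D.simple j)) t ∉ D.parabolicSubgroup F (JJ D j : Set ℕ) := by
  intro hm
  have g := h.std.good
  have hs := simple_pos g hj
  have hB := borel_le_parabolic (D := D) (F := F) (JJ D j : Set ℕ)
  have hn : nG g (D.simple j) (-t⁻¹) ∈ D.parabolicSubgroup F (JJ D j : Set ℕ) := by
    rw [nG, g.neg_eq _ hs.1, inv_neg, inv_inv, neg_neg]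
    exact mul_mem (mul_mem (hB (xG_mem_borel g hs _)) hm) (hB (xG_mem_borel g hs _))
  obtain ⟨e, he⟩ := nG_simple_mem (F := F) g hj (b := -t⁻¹) (neg_ne_zero.2 (inv_ne_zero ht))
  rw [he] at hn
  have := mul_mem (inv_mem (hB (tor_mem_borel g e))) hn
  rw [inv_mul_cancel_left] at this
  simpa [JJ] using StVal.mem_J_of_nS_mem h hj this

/-- the roots other than `α_j` of positive level stay in the neighbouring parabolic -/
theorem mem_conj_parabolic (h : Para D A) (hj : j < D.rank) (hC : levCheck D A j = true)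
    (hnn : (nS F h.std.good j)⁻¹ = nS F h.std.good j) {s : ℕ} (hs : s < D.nroots) (h1 : 1 ≤ A.a s j)
    (hne : s ≠ D.simple j) (t : F) : xG h.std.good s t ∈
      (D.parabolicSubgroup F (JJ D j : Set ℕ)).map (MulAut.conj (nS F h.std.good j)).toMonoidHom := by
  have g := h.std.good
  refine ⟨(nS F g j) * xG g s t * (nS F g j)⁻¹, ?_, ?_⟩
  swap
  · simp only [MulEquiv.coe_toMonoidHom, MulAut.conj_apply, hnn]
    have h2 : nS F g j * nS F g j = 1 := by nth_rw 1 [← hnn]; exact inv_mul_cancel _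
    rw [show nS F g j * (nS F g j * xG g s t * nS F g j) * nS F g j =
      (nS F g j * nS F g j) * xG g s t * (nS F g j * nS F g j) by group, h2]
    group
  rw [SetLike.mem_coe, nS_conj_xG g hj hs]
  have hlt := g.refl_lt j hj s hs
  have h2 := lev_sub h.std hj hC hs h1 hne
  by_cases hz : A.a (A.refl j s) j = 0
  · refine inJ_mem_parabolic h ⟨hlt, fun l hl hlJ => ?_⟩ _
    obtain rfl : l = j := by
      by_contra hlj
      exact hlJ (by simp [JJ, hlj, hl])
    exact hz
  · exact borel_le_parabolic _ (xG_mem_borel g (pos_of_coord_pos g (j := j) hlt (by omega)) _)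

theorem Lv_succ_le_conj (h : Std D A) (hj : j < D.rank) (hC : levCheck D A j = true)
    (hnn : (nS F h.good j)⁻¹ = nS F h.good j) {k : ℕ} (hk : 1 ≤ k) :
    Lv F h.good j (k + 1) ≤ (Lv F h.good j k).map (MulAut.conj (nS F h.good j)).toMonoidHom := by
  have g := h.good
  refine UP_le fun s t hs => ⟨(nS F g j) * xG g s t * (nS F g j)⁻¹, ?_, ?_⟩
  swap
  · simp only [MulEquiv.coe_toMonoidHom, MulAut.conj_apply, hnn]
    have h2 : nS F g j * nS F g j = 1 := by nth_rw 1 [← hnn]; exact inv_mul_cancel _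
    rw [show nS F g j * (nS F g j * xG g s t * nS F g j) * nS F g j =
      (nS F g j * nS F g j) * xG g s t * (nS F g j * nS F g j) by group, h2]
    group
  rw [SetLike.mem_coe, nS_conj_xG g hj hs.1]
  have hne : s ≠ D.simple j := fun e => by
    have := hs.2
    rw [e, g.a_simple j hj j hj, if_pos rfl] at this
    omega
  have h2 := lev_sub h hj hC hs.1 (by omega) hne
  exact xG_mem_UP g (P := fun r => r < D.nroots ∧ (k : ℤ) ≤ A.a r j)
    ⟨g.refl_lt j hj s hs.1, by omega⟩ _

/-- the bottom of a level is outside the neighbour -/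
theorem tau_bottom (h : Para D A) (hj : j < D.rank)
    (hC : levCheck D A j = true) (hnn : (nS F h.std.good j)⁻¹ = nS F h.std.good j)
    {k : ℕ} (hk : 1 ≤ k) {z : GL D.Idx F} (hz : z ∈ Lv F h.std.good j k)
    (hc : k = 1 ∧ z ∈ (D.parabolicSubgroup F (JJ D j : Set ℕ)).map
        (MulAut.conj (nS F h.std.good j)).toMonoidHom ∨
      z ∈ (Lv F h.std.good j k).map (MulAut.conj (nS F h.std.good j)).toMonoidHom)
    {r : ℕ} (hr : r < D.nroots) (hrk : A.a r j = k)
    (hbot : r = D.simple j ∨ (2 ≤ k ∧ 1 ≤ A.cart j r)) : tau h.std.good r z = 0 := by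
  have g := h.std.good
  rcases hc with ⟨rfl, hP⟩ | hL
  · obtain rfl : r = D.simple j := hbot.resolve_right (by omega)
    set P' := (D.parabolicSubgroup F (JJ D j : Set ℕ)).map (MulAut.conj (nS F g j)).toMonoidHom
    have key : ∀ w ∈ Lv F g j 1, xG g (D.simple j) (-(tau g (D.simple j) w)) * w ∈ P' := by
      have step : ∀ s t, s < D.nroots → (1 : ℤ) ≤ A.a s j → ∀ b ∈ Lv F g j 1,
          xG g (D.simple j) (-(tau g (D.simple j) b)) * b ∈ P' →
          xG g (D.simple j) (-(tau g (D.simple j) (xG g s t * b))) * (xG g s t * b) ∈ P' := by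
        intro s t hs hs1 b hb ih
        rw [tau_mul g hj le_rfl hr hrk (xG_T1 g hs t ((one_le_evR_yk hj le_rfl s).2 (by exact_mod_cast hs1)))
          (T1_of_mem_Lv g hj le_rfl hb), tau_xG g hj le_rfl hr hrk hs (by exact_mod_cast hs1)]
        by_cases hsα : s = D.simple j
        · subst hsα
          rw [if_pos rfl, ← mul_assoc, xG_add, show -(t + tau g (D.simple j) b) + t =
            -(tau g (D.simple j) b) by ring]
          exact ih
        rw [if_neg hsα, zero_add]
        set c := -(tau g (D.simple j) b)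
        rw [show xG g (D.simple j) c * (xG g s t * b) =
          (xG g (D.simple j) c * xG g s t * (xG g (D.simple j) c)⁻¹) * (xG g (D.simple j) c * b) by group]
        refine mul_mem ?_ ih
        have hw := conj_xG_mem h.std (P := fun q => q < D.nroots ∧ 1 ≤ A.a q j ∧ q ≠ D.simple j)
          (g.simple_lt j hj) hs hsα (fun e => by
            rw [e, g.a_neg _ (g.simple_lt j hj), g.a_simple j hj j hj, if_pos rfl] at hs1; omega)
          ⟨hs, hs1, hsα⟩ (fun u hu a b ha hb e => by
            have e1 := e j hj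
            rw [g.a_simple j hj j hj, if_pos rfl] at e1
            refine ⟨hu, by nlinarith, fun eu => ?_⟩
            rw [eu, g.a_simple j hj j hj, if_pos rfl] at e1
            nlinarith) c t
        exact (UP_le fun q u hq => mem_conj_parabolic h hj hC hnn hq.1 hq.2.1 hq.2.2 u) hw
      intro w hw
      induction hw using Subgroup.closure_induction_left with
      | one => simp [tau_one, xG_zero, one_mem]
      | mul_left a ha b hb ih =>
        obtain ⟨s, t, hs, rfl⟩ := ha
        exact step s t hs.1 (by exact_mod_cast hs.2) b hb ih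
      | inv_mul_cancel a ha b hb ih =>
        obtain ⟨s, t, hs, rfl⟩ := ha
        rw [xG_inv]
        exact step s (-t) hs.1 (by exact_mod_cast hs.2) b hb ih
    have hmem := mul_mem (key z hz) (inv_mem hP)
    rw [mul_inv_cancel_right] at hmem
    obtain ⟨q, hq, e⟩ := hmem
    by_contra hne
    simp only [MulEquiv.coe_toMonoidHom, MulAut.conj_apply] at e
    have hq' : q = (nS F g j)⁻¹ * xG g (D.simple j) (-(tau g (D.simple j) z)) * nS F g j := by
      rw [← e]; group
    rw [hnn] at hq'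
    nth_rw 2 [← hnn] at hq'
    rw [nS_conj_xG g hj hr, refl_simple g hj] at hq'
    exact xG_neg_not_mem h hj (mul_ne_zero (eta_ne_zero g hj hr) (neg_ne_zero.2 hne)) (hq' ▸ hq)
  · obtain ⟨w, hw, e⟩ := hL
    have hzy : T1 A (pull A (A.refl j) (yk D j k)) z := by
      rw [← e]
      refine T1_of_mem_UP g (P := fun q => q < D.nroots ∧ (k : ℤ) ≤ A.a (A.refl j q) j)
        (fun q hq => ⟨hq.1, by
          rw [evR_pull g (rootMap_refl g hj) hq.1]
          exact (one_le_evR_yk hj hk _).2 hq.2⟩) ?_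
      exact conj_UP_le (acts_nS g hj) (fun s hs => hs.1) (fun s t hs => xG_mem_UP g
        (P := fun q => q < D.nroots ∧ (k : ℤ) ≤ A.a (A.refl j q) j)
        ⟨g.refl_lt j hj s hs.1, by rw [g.refl_refl j hj s hs.1]; exact hs.2⟩ t) hw
    have hmem := mem_UP_of_T1 h.std (Lv_le_pos g hk hz) (T1_of_mem_Lv g hj hk hz) hzy
    refine tau_zero_of_mem g hj hk hr hrk (fun s hs => ⟨hs.1.1, (one_le_evR_yk hj hk s).1 hs.2.1⟩)
      (fun hP => ?_) hmem
    have h2 := hP.2.2
    rw [evR_pull g (rootMap_refl g hj) hr, one_le_evR_yk hj hk, g.a_refl j hj r hr j hj, if_pos rfl,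
      hrk] at h2
    rcases hbot with rfl | hb
    · rw [g.cart_simple j hj] at h2; omega
    · omega

/-- a normal subgroup inside two adjacent levels moves one level down -/
theorem le_Lv_succ (h : Para D A) (hj : j < D.rank) (hC : levCheck D A j = true)
    (hnn : (nS F h.std.good j)⁻¹ = nS F h.std.good j) {k : ℕ} (hk : 1 ≤ k)
    {N : Subgroup (GL D.Idx F)} (hNk : N ≤ Lv F h.std.good j k)
    (hN : ∀ y ∈ D.parabolicSubgroup F (JJ D j : Set ℕ), ∀ z ∈ N, y * z * y⁻¹ ∈ N)
    (hc : (k = 1 ∧ N ≤ (D.parabolicSubgroup F (JJ D j : Set ℕ)).map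
        (MulAut.conj (nS F h.std.good j)).toMonoidHom) ∨
      N ≤ (Lv F h.std.good j k).map (MulAut.conj (nS F h.std.good j)).toMonoidHom) :
    N ≤ Lv F h.std.good j (k + 1) := by
  have g := h.std.good
  have hdesc := hC
  simp only [levCheck, List.all_eq_true, List.any_eq_true, List.mem_range, Bool.and_eq_true,
    Bool.or_eq_true, decide_eq_true_eq] at hdesc
  have key : ∀ m : ℕ, ∀ r < D.nroots, A.a r j = k → (htR D A r).toNat = m →
      ∀ z ∈ N, tau g r z = 0 := by
    intro m
    induction m using Nat.strong_induction_on with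
    | _ m ih =>
      intro r hr hrk hm z hz
      have hbot : r = D.simple j ∨ (2 ≤ k ∧ 1 ≤ A.cart j r) ∨
          ∃ i, i < D.rank ∧ i ≠ j ∧ 0 < A.cart i r := by
        rcases (hdesc r hr).1.2 with ((h1 | ⟨i, hi, h1⟩) | h1) | h1
        · omega
        · exact Or.inr (Or.inr ⟨i, hi, h1⟩)
        · exact Or.inl h1
        · exact Or.inr (Or.inl ⟨by omega, h1.2⟩)
      rcases hbot with h1 | h1 | ⟨i, hi, hij, hci⟩
      · exact tau_bottom h hj hC hnn hk (hNk hz) (hc.imp (fun e => ⟨e.1, e.2 hz⟩) (fun e => e hz))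
          hr hrk (Or.inl h1)
      · exact tau_bottom h hj hC hnn hk (hNk hz) (hc.imp (fun e => ⟨e.1, e.2 hz⟩) (fun e => e hz))
          hr hrk (Or.inr h1)
      have hlev : ∀ s < D.nroots, A.a (A.refl i s) j = A.a s j := fun s hs => by
        rw [g.a_refl i hi s hs j hj, if_neg (Ne.symm hij), sub_zero]
      obtain ⟨c, hc0, hcz⟩ := tau_monomial (F := F) g hj hk (acts_nS g hi) hlev hr hrk
      have hlt := g.refl_lt i hi r hr
      have hht : htR D A (A.refl i r) = htR D A r - A.cart i r := by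
        unfold htR
        rw [Finset.sum_congr rfl (fun l hl => g.a_refl i hi r hr l (Finset.mem_range.1 hl)),
          Finset.sum_sub_distrib, Finset.sum_ite_eq', if_pos (Finset.mem_range.2 hi)]
      have hpos := one_le_htR g (pos_of_coord_pos g (j := j) hlt (by rw [hlev r hr, hrk]; omega))
      have h0 := ih _ (by omega) (A.refl i r) hlt (by rw [hlev r hr, hrk]) rfl _
        (hN _ (nS_mem_parabolic g hi (Finset.mem_coe.2 (Finset.mem_erase.2 ⟨hij, Finset.mem_range.2 hi⟩)))
          z hz)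
      rw [hcz z (hNk hz)] at h0
      exact (mul_eq_zero.1 h0).resolve_left hc0
  exact fun z hz => mem_Lv_succ h.std hj hk (hNk hz) fun r hr hrk => key _ r hr hrk rfl z hz

/-- a normal subgroup of the parabolic subgroup inside its neighbour lies in the radical -/
theorem le_Lv_one (h : Para D A) (hj : j < D.rank) (hC : levCheck D A j = true)
    (hS : spanCheck D A j = true) (hnn : (nS F h.std.good j)⁻¹ = nS F h.std.good j)
    (hsub : Subsingleton Fˣ) {N : Subgroup (GL D.Idx F)}
    (hNP : N ≤ D.parabolicSubgroup F (JJ D j : Set ℕ))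
    (hN : ∀ y ∈ D.parabolicSubgroup F (JJ D j : Set ℕ), ∀ z ∈ N, y * z * y⁻¹ ∈ N)
    (hc : N ≤ (D.parabolicSubgroup F (JJ D j : Set ℕ)).map
      (MulAut.conj (nS F h.std.good j)).toMonoidHom) :
    N ≤ Lv F h.std.good j 1 := by
  have g := h.std.good
  have hnorm := parabolic_le_normalizer_Lv (F := F) h.std hj (le_refl 1)
  have hN0 : N ⊓ Lv F g j 1 ≤ Lv F g j 2 := le_Lv_succ h hj hC hnn le_rfl inf_le_right
    (fun y hy z hz => ⟨hN y hy z hz.1, (Subgroup.mem_normalizer_iff.1 (hnorm hy) z).1 hz.2⟩)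
    (Or.inl ⟨rfl, inf_le_left.trans hc⟩)
  -- the normal subgroup acts trivially on the first layer
  have htriv : ∀ z ∈ N, ∀ r < D.nroots, A.a r j = 1 → ∀ w ∈ Lv F g j 1,
      tau g r (z * w * z⁻¹) = tau g r w := by
    intro z hz r hr hr1 w hw
    have h1 : z * w * z⁻¹ ∈ Lv F g j 1 := (Subgroup.mem_normalizer_iff.1 (hnorm (hNP hz)) w).1 hw
    have h2 : z * w * z⁻¹ * w⁻¹ ∈ Lv F g j 2 := hN0 ⟨by
      rw [show z * w * z⁻¹ * w⁻¹ = z * (w * z⁻¹ * w⁻¹) by group]
      exact mul_mem hz (hN w (Lv_le_parabolic g le_rfl hw) _ (inv_mem hz)), (mul_mem h1 (inv_mem hw) : z * w * z⁻¹ * w⁻¹ ∈ Lv F g j 1)⟩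
    have h3 : tau g r (z * w * z⁻¹ * w⁻¹) = 0 := tau_zero_of_mem g hj le_rfl hr hr1
      (P := fun s => s < D.nroots ∧ ((2 : ℕ) : ℤ) ≤ A.a s j)
      (fun s hs => ⟨hs.1, by omega⟩) (fun hs => by omega) h2
    have h4 := tau_mul g hj le_rfl hr hr1 (T1_of_mem_Lv g hj le_rfl (Lv_mono g j (by omega) h2))
      (T1_of_mem_Lv g hj le_rfl hw)
    rw [inv_mul_cancel_right, h3, zero_add] at h4
    exact h4
  have hBU : ∀ b ∈ D.borelSubgroup F, b ∈ D.posUnipotent F := by
    intro b hb
    obtain ⟨v, hv, c, rfl⟩ := (mem_borel_iff g).1 hb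
    rwa [show c = 1 from funext fun _ => Subsingleton.elim _ _, map_one, mul_one]
  -- conjugates into the big cell representatives
  have hB : N ≤ D.borelSubgroup F := by
    intro z hz
    obtain ⟨w, hw, b, hb, b', hb', e⟩ := mem_parabolic_cell h.std (JJ D j) (hNP hz)
    obtain ⟨σ, hσ, hσJ⟩ := WJ_acts g hw
    have hlev : ∀ s < D.nroots, A.a (σ s) j = A.a s j := fun s hs => hσJ s hs j hj (by simp [JJ])
    have hv : b' * b ∈ D.posUnipotent F := hBU _ (mul_mem hb' hb)
    set v := b' * b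
    have hz' : w * v ∈ N := by
      have := hN b⁻¹ (borel_le_parabolic _ (inv_mem hb)) z hz
      rw [e, inv_inv, show b⁻¹ * (b * w * b') * b = w * (b' * b) by group] at this
      exact this
    have hfix : ∀ r < D.nroots, A.a r j = 1 → σ r = r := by
      intro r hr hr1
      have hrpos := pos_of_coord_pos g (j := j) hr (by omega)
      have hx : xG g r (1 : F) ∈ Lv F g j 1 :=
        xG_mem_UP g (P := fun s => s < D.nroots ∧ ((1 : ℕ) : ℤ) ≤ A.a s j) ⟨hr, by omega⟩ 1
      have hvP : v ∈ D.parabolicSubgroup F (JJ D j : Set ℕ) := borel_le_parabolic _ (pos_le_borel hv)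
      have hvx : v * xG g r 1 * v⁻¹ ∈ Lv F g j 1 := (Subgroup.mem_normalizer_iff.1 (hnorm hvP) _).1 hx
      have hcomm : v * xG g r 1 * v⁻¹ * (xG g r 1)⁻¹ ∈ Lv F g j 1 := mul_mem hvx (inv_mem hx)
      have hlevc : ∀ s, lev D A (fun _ => 1) s = htR D A s := fun s => by simp [lev, htR]
      have h1 : 1 ≤ htR D A r := one_le_htR g hrpos
      have hvT : v ∈ triG (levW D A (fun _ => 1)) 0 le_rfl := by
        have hle : D.posUnipotent F ≤ triG (levW D A (fun _ => 1)) 0 le_rfl := by
          rw [posUnipotent_eq g, Subgroup.closure_le]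
          rintro q ⟨s, t, hs, rfl⟩
          exact xG_mem_triG_ge g _ hs.1 t _ (by rw [hlevc]; linarith [one_le_htR g hs])
        exact hle hv
      have hcT := (commutator_mem_triG hvT
        (xG_mem_triG_ge g (fun _ => 1) hr (1 : F) (b := htR D A r - 1) (by omega)
          (by rw [hlevc]; omega))).1
      have h5 : tau g r (v * xG g r 1 * v⁻¹ * (xG g r 1)⁻¹) = 0 := by
        simp only [tau, dif_pos hr, Matrix.sub_apply]
        rw [hcT _ _ (by simp only [levW, lev_neg g _ hr, hlevc]; omega), Matrix.one_apply_ne (by simp),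
          if_neg (by simp), sub_zero, zero_div]
      have h6 : tau g r (v * xG g r 1 * v⁻¹) = 1 := by
        have := tau_mul g hj le_rfl hr hr1 (T1_of_mem_Lv g hj le_rfl hcomm) (T1_of_mem_Lv g hj le_rfl hx)
        rw [inv_mul_cancel_right, h5, zero_add, tau_xG g hj le_rfl hr hr1 hr (by omega), if_pos rfl] at this
        exact this
      obtain ⟨c, hc0, hcz⟩ := tau_monomial (F := F) g hj le_rfl hσ hlev hr hr1
      have h7 := hcz _ hvx
      rw [h6, mul_one, show w * (v * xG g r 1 * v⁻¹) * w⁻¹ = (w * v) * xG g r 1 * (w * v)⁻¹ by group,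
        htriv _ hz' (σ r) (hσ.map.1 r hr) (by rw [hlev r hr, hr1]) _ hx,
        tau_xG g hj le_rfl (hσ.map.1 r hr) (by rw [hlev r hr, hr1]; rfl) hr (by omega)] at h7
      by_contra hne
      rw [if_neg (Ne.symm hne)] at h7
      exact hc0 h7.symm
    have hall : ∀ i < D.rank, σ (D.simple i) = D.simple i := by
      intro i hi
      have hsi := g.simple_lt i hi
      by_cases hij : i = j
      · subst hij
        exact hfix _ hsi (by rw [g.a_simple i hi i hi, if_pos rfl])
      have hS' := hS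
      simp only [spanCheck, List.all_eq_true, List.any_eq_true, List.mem_range, Bool.and_eq_true,
        Bool.or_eq_true, decide_eq_true_eq] at hS'
      obtain ⟨r, hr, hr1, r', hr', e⟩ := (hS' i hi).resolve_left hij
      have hr1' : A.a r' j = 1 := by rw [e j hj, if_neg (Ne.symm hij), add_zero, hr1]
      have hlin := hσ.map.lin (i := 1) (k := -1) hr' hr hsi (fun l hl => by
        rw [e l hl, g.a_simple i hi l hl]; ring)
      refine g.a_inj _ (hσ.map.1 _ hsi) _ hsi fun l hl => ?_
      rw [hlin l hl, hfix r hr hr1, hfix r' hr' hr1', e l hl, g.a_simple i hi l hl]; ring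
    have hid : ∀ r < D.nroots, σ r = r := fun r hr => g.a_inj _ (hσ.map.1 r hr) r hr fun l hl => by
      rw [simple_eq_sum g hσ.map hr l hl, Finset.sum_eq_single l]
      · rw [hall l hl, g.a_simple l hl l hl, if_pos rfl, mul_one]
      · intro k hk hkl
        rw [hall k (Finset.mem_range.1 hk), g.a_simple k (Finset.mem_range.1 hk) l hl,
          if_neg (Ne.symm hkl), mul_zero]
      · intro hh; exact absurd (Finset.mem_range.2 hl) hh
    have hwB := diagonal_le_borel (mem_diag_of_id h.std (WJ_le_monomial g _ hw) hσ hid)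
    rw [e]
    exact mul_mem (mul_mem hb hwB) hb'
  intro z hz
  obtain ⟨n₀, hn₀, σ₀, hσ₀, hneg⟩ := exists_big (F := F) h.std (JJ D j)
  have hc' := hN n₀⁻¹ (inv_mem (WJ_le_parabolic g _ hn₀)) z hz
  rw [inv_inv] at hc'
  rw [Lv_one_eq_radical h hj]
  exact mem_radical_of_conj h hn₀ hσ₀ hneg (hBU z (hB hz)) (hB hc')

end cores

end CfsgLib.Chev.Levels
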