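/-
The iterated cores of two adjacent conjugate maximal parabolic subgroups over the field with two elements.
-/
import Cfsg.Agent.Lib.Chev.Levels.Basic

set_option autoImplicit false

namespace CfsgLib.Chev.Levels

open Cfsg.Lie Matrix CfsgLib.Chev.Grade

/-- the core of `X` in `M`, characterised by its maximality -/
theorem core_eq {G : Type*} [Group G] {M X K : Subgroup G} (hKX : K ≤ X) (hKM : K ≤ M)
    (hK : ∀ y ∈ M, ∀ z ∈ K, y * z * y⁻¹ ∈ K)
    (hmax : ∀ N : Subgroup G, N ≤ X → N ≤ M → (∀ y ∈ M, ∀ z ∈ N, y * z * y⁻¹ ∈ N) → N ≤ K) :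
    (X.subgroupOf M).normalCore.map M.subtype = K := by
  refine le_antisymm (hmax _ ?_ (Subgroup.map_subtype_le _) ?_) ?_
  · rintro x ⟨u, hu, rfl⟩
    exact Subgroup.mem_subgroupOf.1 ((X.subgroupOf M).normalCore_le hu)
  · rintro y hy z ⟨u, hu, rfl⟩
    exact ⟨⟨y, hy⟩ * u * ⟨y, hy⟩⁻¹,
      (X.subgroupOf M).normalCore_normal.conj_mem u hu ⟨y, hy⟩, by simp⟩
  · intro z hz
    have : (K.subgroupOf M).Normal := ⟨fun u hu y => hK y y.2 u hu⟩
    refine ⟨⟨z, hKM hz⟩, ?_, rfl⟩
    exact (Subgroup.normal_le_normalCore (H := X.subgroupOf M) (N := K.subgroupOf M)).2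
      (fun u hu => hKX hu) hz

variable {D : ChevalleyDatum} {A : Aux} {F : Type*} [Field F]

theorem mem_JJ {j i : ℕ} (hi : i < D.rank) (hij : i ≠ j) : i ∈ (JJ D j : Set ℕ) :=
  Finset.mem_coe.2 (Finset.mem_erase.2 ⟨hij, Finset.mem_range.2 hi⟩)

theorem nS_not_mem (h : Para D A) {j : ℕ} (hj : j < D.rank) :
    nS F h.std.good j ∉ D.parabolicSubgroup F (JJ D j : Set ℕ) := fun hm => by
  have := StVal.mem_J_of_nS_mem h hj hm
  simp [JJ] at this

theorem coatom_parabolicIn (h : Para D A) {j : ℕ} (hj : j < D.rank) :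
    IsCoatom (D.parabolicIn F (JJ D j)) := by
  have g := h.std.good
  refine ⟨fun e => nS_not_mem (F := F) h hj ?_, fun H hH => ?_⟩
  · have := (Subgroup.eq_top_iff' _).1 e ⟨nS F g j, nS_mem_group g j⟩
    exact this
  have hB : (bnPair (F := F) h.std).B ≤ H := fun z hz =>
    hH.le (borel_le_parabolic _ hz : (z : GL D.Idx F) ∈ D.parabolicSubgroup F (JJ D j : Set ℕ))
  have hHe := BN.eq_parabolic_of_le (P := bnPair h.std) hB
  by_cases hn : (⟨nS F g j, nS_mem_group g j⟩ : ↥(D.group F)) ∈ H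
  · have hall : BN.gens (bnPair h.std) H = (bnPair (F := F) h.std).S := by
      refine Set.Subset.antisymm (fun s hs => hs.1) fun s hs => ⟨hs, ?_⟩
      obtain ⟨i, hi, e⟩ := hs
      by_cases hij : i = j
      · subst hij
        rwa [show s = ⟨nS F g i, nS_mem_group g i⟩ from Subtype.ext e]
      · refine hH.le ?_
        show (s : GL D.Idx F) ∈ D.parabolicSubgroup F (JJ D j : Set ℕ)
        rw [e]
        exact nS_mem_parabolic g hi (mem_JJ hi hij)
    rw [hHe, hall, BN.parabolic_S]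
  · refine absurd (le_antisymm ?_ hH.le) hH.ne'
    rw [hHe]
    refine sup_le (fun z hz => borel_le_parabolic _ hz) ((Subgroup.closure_le _).2 ?_)
    rintro s ⟨⟨i, hi, e⟩, hs⟩
    show (s : GL D.Idx F) ∈ D.parabolicSubgroup F (JJ D j : Set ℕ)
    rw [e]
    refine nS_mem_parabolic g hi (mem_JJ hi fun hij => hn ?_)
    subst hij
    rwa [show s = ⟨nS F g i, nS_mem_group g i⟩ from Subtype.ext e] at hs

/-- the example: all statements about the iterated cores -/
theorem iterated_cores (h : Para D A) {j : ℕ} (hj : j < D.rank) (hC : levCheck D A j = true)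
    (hS : spanCheck D A j = true) (hsub : Subsingleton Fˣ) [IsSimpleGroup ↥(D.group F)]
    (hsix : ∃ r < D.nroots, A.a r j = 6) :
    ∃ (M₁ M₂ : Subgroup ↥(D.group F)) (g : ↥(D.group F)) (Am Bm : ℕ → Subgroup ↥(D.group F)),
      IsCoatom M₁ ∧ M₂ = M₁.map (MulAut.conj g).toMonoidHom ∧ M₁ ≠ M₂ ∧ M₁.normalCore = ⊥ ∧
      Am 0 = M₁ ∧ Bm 0 = M₂ ∧
      (∀ i, Am (i + 1) = ((Am i ⊓ Bm i).subgroupOf M₁).normalCore.map M₁.subtype) ∧
      (∀ i, Bm (i + 1) = ((Am i ⊓ Bm i).subgroupOf M₂).normalCore.map M₂.subtype) ∧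
      Am 6 = ⊥ ∧ Am 5 ≠ ⊥ := by
  have g := h.std.good
  have hnn : (nS F g j)⁻¹ = nS F g j := by
    obtain ⟨z, hz⟩ := nS_sq_mem (F := F) g hj
    have hz1 : z = 1 := funext fun _ => Subsingleton.elim _ _
    rw [hz1, map_one] at hz
    exact inv_eq_of_mul_eq_one_right hz.symm
  set nG : ↥(D.group F) := ⟨nS F g j, nS_mem_group g j⟩
  set M₁ := D.parabolicIn F (JJ D j)
  set c : ↥(D.group F) →* ↥(D.group F) := (MulAut.conj nG).toMonoidHom with hc
  have hcc : ∀ x, c (c x) = x := fun x => by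
    have h2 : nG * nG = 1 := Subtype.ext (by
      show nS F g j * nS F g j = 1
      nth_rw 1 [← hnn]
      exact inv_mul_cancel _)
    have h3 : nG⁻¹ = nG := inv_eq_of_mul_eq_one_right h2
    simp only [hc, MulEquiv.coe_toMonoidHom, MulAut.conj_apply, h3]
    rw [show nG * (nG * x * nG) * nG = (nG * nG) * x * (nG * nG) by group, h2]
    group
  have hinj : Function.Injective c := (MulAut.conj nG).injective
  have hmap2 : ∀ N : Subgroup ↥(D.group F), (N.map c).map c = N := fun N => by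
    ext x
    simp only [Subgroup.mem_map]
    exact ⟨fun ⟨_, ⟨w, hw, rfl⟩, e⟩ => by rw [← e, hcc]; exact hw, fun hx => ⟨_, ⟨x, hx, rfl⟩, hcc x⟩⟩
  let L : ℕ → Subgroup ↥(D.group F) := fun k => (Lv F g j k).subgroupOf (D.group F)
  let Am : ℕ → Subgroup ↥(D.group F) := fun i => if i = 0 then M₁ else L (i + 1)
  -- passing to the matrices
  have hdown : ∀ {N : Subgroup ↥(D.group F)} {S : Subgroup (GL D.Idx F)},
      N ≤ (S.subgroupOf (D.group F)).map c →
      N.map (D.group F).subtype ≤ S.map (MulAut.conj (nS F g j)).toMonoidHom := by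
    rintro N S hN x ⟨u, hu, rfl⟩
    obtain ⟨w, hw, rfl⟩ := hN hu
    exact ⟨w, hw, by simp [hc, nG]⟩
  have hup : ∀ {K S : Subgroup (GL D.Idx F)}, S ≤ D.group F →
      K ≤ S.map (MulAut.conj (nS F g j)).toMonoidHom →
      K.subgroupOf (D.group F) ≤ (S.subgroupOf (D.group F)).map c := by
    intro K S hS hK x hx
    obtain ⟨w, hw, e⟩ := hK hx
    exact ⟨⟨w, hS hw⟩, hw, Subtype.ext (by simpa [hc, nG] using e)⟩
  have hPG : D.parabolicSubgroup F (JJ D j : Set ℕ) ≤ D.group F := StVal.parabolic_le_group g _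
  have hLG : ∀ {k}, 1 ≤ k → Lv F g j k ≤ D.group F := fun hk => (Lv_le_parabolic g hk).trans hPG
  have hLn : ∀ {k}, 1 ≤ k → ∀ y ∈ M₁, ∀ z ∈ L k, y * z * y⁻¹ ∈ L k := by
    intro k hk y hy z hz
    exact (Subgroup.mem_normalizer_iff.1 (parabolic_le_normalizer_Lv h.std hj hk hy) _).1 hz
  have hLM : ∀ {k}, 1 ≤ k → L k ≤ M₁ := fun hk x hx => Lv_le_parabolic g hk hx
  have hnorm : ∀ (N : Subgroup ↥(D.group F)), (∀ y ∈ M₁, ∀ z ∈ N, y * z * y⁻¹ ∈ N) →
      ∀ y ∈ D.parabolicSubgroup F (JJ D j : Set ℕ), ∀ z ∈ N.map (D.group F).subtype,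
        y * z * y⁻¹ ∈ N.map (D.group F).subtype := by
    rintro N hN y hy z ⟨u, hu, rfl⟩
    exact ⟨_, hN ⟨y, hPG hy⟩ hy u hu, by simp⟩
  -- the three facts at each step
  have hKX : ∀ i, Am (i + 1) ≤ Am i ⊓ (Am i).map c := by
    intro i
    rcases Nat.eq_zero_or_pos i with rfl | hi
    · simp only [Am, if_pos, Nat.succ_ne_zero, if_false]
      refine le_inf (hLM (by omega)) ((hup hPG ?_))
      exact (Lv_succ_le_conj h.std hj hC hnn le_rfl).trans
        (Subgroup.map_mono (Lv_le_parabolic g le_rfl))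
    · simp only [Am, if_neg (show i ≠ 0 by omega), Nat.succ_ne_zero, if_false]
      exact le_inf (fun x hx => Lv_mono g j (by omega) hx)
        (hup (hLG (by omega)) (Lv_succ_le_conj h.std hj hC hnn (by omega)))
  have hmax : ∀ i, ∀ N : Subgroup ↥(D.group F), N ≤ Am i ⊓ (Am i).map c → N ≤ M₁ →
      (∀ y ∈ M₁, ∀ z ∈ N, y * z * y⁻¹ ∈ N) → N ≤ Am (i + 1) := by
    intro i N hX hM hN
    have hNP : N.map (D.group F).subtype ≤ D.parabolicSubgroup F (JJ D j : Set ℕ) := by
      rintro x ⟨u, hu, rfl⟩; exact hM hu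
    have hN' := hnorm N hN
    suffices N.map (D.group F).subtype ≤ Lv F g j (i + 2) by
      intro x hx
      simp only [Am, Nat.succ_ne_zero, if_false]
      exact this ⟨x, hx, rfl⟩
    rcases Nat.eq_zero_or_pos i with rfl | hi
    · simp only [Am, if_pos] at hX
      have hc' := hdown (le_trans hX inf_le_right)
      exact le_Lv_succ h hj hC hnn le_rfl (le_Lv_one h hj hC hS hnn hsub hNP hN' hc') hN'
        (Or.inl ⟨rfl, hc'⟩)
    · simp only [Am, if_neg (show i ≠ 0 by omega)] at hX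
      exact le_Lv_succ h hj hC hnn (by omega) (by rintro x ⟨u, hu, rfl⟩; exact (hX hu).1) hN'
        (Or.inr (hdown (le_trans hX inf_le_right)))
  have hKn : ∀ i, ∀ y ∈ M₁, ∀ z ∈ Am (i + 1), y * z * y⁻¹ ∈ Am (i + 1) := by
    intro i
    simp only [Am, Nat.succ_ne_zero, if_false]
    exact hLn (by omega)
  have hKM : ∀ i, Am (i + 1) ≤ M₁ := by
    intro i
    simp only [Am, Nat.succ_ne_zero, if_false]
    exact hLM (by omega)
  have hsym : ∀ i, (Am i ⊓ (Am i).map c).map c = Am i ⊓ (Am i).map c := fun i => by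
    rw [Subgroup.map_inf _ _ _ hinj, hmap2, inf_comm]
  refine ⟨M₁, M₁.map c, nG, Am, fun i => (Am i).map c, coatom_parabolicIn h hj, rfl, ?_, ?_, rfl,
    rfl, fun i => (core_eq (hKX i) (hKM i) (hKn i) (hmax i)).symm, fun i => ?_, ?_, ?_⟩
  · intro e
    have hα := g.simple_lt j hj
    have hx : (⟨xG g (D.simple j) 1, xG_mem_group g _ _⟩ : ↥(D.group F)) ∈ M₁ :=
      borel_le_parabolic _ (xG_mem_borel g (simple_pos g hj) (1 : F))
    have hcx := Subgroup.mem_map_of_mem c hx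
    rw [← e] at hcx
    have hval : nS F g j * xG g (D.simple j) 1 * (nS F g j)⁻¹ ∈
        D.parabolicSubgroup F (JJ D j : Set ℕ) := hcx
    rw [nS_conj_xG g hj hα, refl_simple g hj] at hval
    exact xG_neg_not_mem h hj (mul_ne_zero (eta_ne_zero g hj hα) one_ne_zero) hval
  · rcases (Subgroup.normalCore_normal M₁).eq_bot_or_eq_top with e | e
    · exact e
    · exact absurd (top_le_iff.1 (e ▸ M₁.normalCore_le)) (coatom_parabolicIn h hj).1
  · refine (core_eq ?_ (Subgroup.map_mono (hKM i)) ?_ fun N hX hM hN => ?_).symm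
    · rw [← hsym i]
      exact Subgroup.map_mono (hKX i)
    · rintro y ⟨y, hy, rfl⟩ z ⟨z, hz, rfl⟩
      exact ⟨_, hKn i y hy z hz, by simp⟩
    · have h1 : N.map c ≤ Am (i + 1) := by
        refine hmax i _ ?_ ?_ ?_
        · rw [← hsym i]; exact Subgroup.map_mono hX
        · rw [← hmap2 M₁]; exact Subgroup.map_mono hM
        · rintro y hy z ⟨z, hz, rfl⟩
          exact ⟨_, hN _ ⟨y, hy, rfl⟩ z hz, by rw [map_mul, map_mul, map_inv, hcc]⟩
      rw [← hmap2 N]
      exact Subgroup.map_mono h1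
  · simp only [Am, Nat.succ_ne_zero, OfNat.ofNat_ne_zero, if_false, L]
    have : Lv F g j 7 ≤ ⊥ := UP_le fun r t hr => by
      have h6 : A.a r j ≤ 6 := by
        have := hC
        simp only [levCheck, List.all_eq_true, List.mem_range, Bool.and_eq_true,
          decide_eq_true_eq] at this
        exact (this r hr.1).2
      have h7 := hr.2
      omega
    rw [eq_bot_iff]
    intro x hx
    exact Subgroup.mem_bot.2 (Subtype.ext (Subgroup.mem_bot.1 (this hx)))
  · obtain ⟨r, hr, hr6⟩ := hsix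
    intro e
    simp only [Am, Nat.succ_ne_zero, OfNat.ofNat_ne_zero, if_false, L] at e
    have hm : (⟨xG g r 1, xG_mem_group g _ _⟩ : ↥(D.group F)) ∈ (Lv F g j 6).subgroupOf (D.group F) :=
      Subgroup.mem_subgroupOf.2 (xG_mem_UP g
        (P := fun r => r < D.nroots ∧ ((6 : ℕ) : ℤ) ≤ A.a r j) ⟨hr, by omega⟩ 1)
    rw [e, Subgroup.mem_bot] at hm
    exact one_ne_zero (xG_eq_one h.std hr (congrArg Subtype.val hm))

theorem levCheck_E8 : levCheck chevE8 auxE8 3 = true := by decide +kernel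
theorem spanCheck_E8 : spanCheck chevE8 auxE8 3 = true := by decide +kernel
theorem six_E8 : ∃ r < chevE8.nroots, auxE8.a r 3 = 6 := by
  have : ((List.range chevE8.nroots).any fun r => decide (auxE8.a r 3 = 6)) = true := by decide +kernel
  simpa [List.any_eq_true] using this

end CfsgLib.Chev.Levels
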